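import Cfsg.Agent.Lib.Kazarin.Aut
import Cfsg.Agent.Lib.CharSimple.Basic
import Cfsg.Agent.Lib.Cores.Subnormal
import Cfsg.Agent.Lib.Cores.Fitting
import Cfsg.Agent.Lib.Cores.Basic
import Cfsg.Agent.Lib.Solvable.Fitting

/-!
# Kazarin's theorem on classes of prime-power size (namespace `Cfsg.Agent.Kazarin`)

* `simple_normal_fixed`: an automorphism with fixed subgroup of prime-power index fixes every
  non-abelian simple normal subgroup pointwise
* `isSolvable_normalClosure`: an element with prime-power class generates a solvable normal closure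
* `commutator_mem_pCore`: two conjugates of such an element commute modulo `O_p`
-/

set_option autoImplicit false

namespace Cfsg.Agent.Kazarin

open Subgroup
open scoped commutatorElement

universe u

theorem relIndex_dvd_index {N : Type*} [Group N] [Finite N] (F M : Subgroup N) [M.Normal] :
    F.relIndex M ∣ F.index := by
  have e2 := Subgroup.relIndex_mul_index (inf_le_left : F ⊓ M ≤ F)
  have e3 := Subgroup.relIndex_mul_index (inf_le_right : F ⊓ M ≤ M)
  rw [Subgroup.inf_relIndex_left] at e2
  rw [Subgroup.inf_relIndex_right] at e3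
  obtain ⟨c, hc⟩ := Subgroup.relIndex_dvd_index_of_normal (H := M) (K := F)
  have h0 : M.relIndex F ≠ 0 := fun h => Subgroup.index_ne_zero_of_finite (H := M) (by rw [hc, h, zero_mul])
  exact ⟨c, mul_left_cancel₀ h0 (by rw [e2, ← e3, hc]; ring)⟩

theorem simple_normal_fixed {N : Type*} [Group N] [Finite N] (α : MulAut N) {p k : ℕ}
    (hp : p.Prime) (hidx : (α.toMonoidHom.eqLocus (MonoidHom.id N)).index = p ^ k)
    (M : Subgroup N) [hM : M.Normal] [IsSimpleGroup M] (hna : ∃ a b : M, a * b ≠ b * a) :
    M ≤ α.toMonoidHom.eqLocus (MonoidHom.id N) := by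
  set F := α.toMonoidHom.eqLocus (MonoidHom.id N)
  obtain ⟨j, -, hj'⟩ := (Nat.dvd_prime_pow hp).1 (hidx ▸ relIndex_dvd_index F M)
  by_cases hinv : M.map α.toMonoidHom = M
  · have hαM : ∀ m ∈ M, α m ∈ M := fun m hm => hinv ▸ ⟨m, hm, rfl⟩
    let β : MulAut M := MulEquiv.ofBijective
      ((α.toMonoidHom.comp M.subtype).codRestrict M fun m => hαM m m.2)
      (by
        have hinj : Function.Injective ((α.toMonoidHom.comp M.subtype).codRestrict M fun m => hαM m m.2) :=
          fun a b h => Subtype.ext (α.injective (congrArg Subtype.val h :))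
        exact Finite.injective_iff_bijective.1 hinj)
    have hβ := aut_eq_one_of_fixed_index hna β hp (k := j) (by
      rw [← hj']
      show _ = (F.subgroupOf M).index
      congr 1
      ext m
      exact Subtype.ext_iff)
    intro m hm
    exact congrArg Subtype.val (DFunLike.congr_fun hβ ⟨m, hm⟩ :)
  · exfalso
    haveI : (M.map α.toMonoidHom).Normal := hM.map _ α.surjective
    have hbot : M ⊓ M.map α.toMonoidHom = ⊥ := by
      rcases (Subgroup.normal_subgroupOf (H := M) (N := M.map α.toMonoidHom)).eq_bot_or_eq_top
        with h | h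
      · rwa [Subgroup.subgroupOf_eq_bot, disjoint_iff, inf_comm] at h
      · rw [Subgroup.subgroupOf_eq_top] at h
        refine absurd (SetLike.coe_injective (Set.eq_of_subset_of_ncard_le h ?_ (Set.toFinite _)).symm) hinv
        rw [← Nat.card_coe_set_eq, ← Nat.card_coe_set_eq]
        exact le_of_eq (Subgroup.card_map_of_injective α.injective)
    have hFM : F.subgroupOf M = ⊥ := by
      rw [Subgroup.subgroupOf_eq_bot, disjoint_iff, eq_bot_iff, ← hbot]
      rintro m ⟨hmF, hmM⟩
      exact ⟨hmM, m, hmM, hmF⟩
    have hcard : Nat.card M = p ^ j := by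
      rw [← hj', Subgroup.relIndex, hFM, Subgroup.index_bot]
    obtain ⟨a, b, hab⟩ := hna
    haveI : Group.IsSolvable M :=
      CharApp.isSolvable_of_card_eq_prime_pow_mul p p hp hp _ M rfl j 0 (by rw [hcard, pow_zero, mul_one])
    exact hab (IsSimpleGroup.comm_iff_isSolvable.2 inferInstance a b)

variable {G : Type u} [Group G] [Finite G]

theorem isSolvable_normalClosure_aux : ∀ (n : ℕ) (G : Type u) [Group G] [Finite G] (x : G) (p k : ℕ),
    Nat.card G = n → p.Prime → (centralizer ({x} : Set G)).index = p ^ k →
      Group.IsSolvable ↥(normalClosure ({x} : Set G)) := by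
  intro n
  induction n using Nat.strong_induction_on with
  | _ n ih =>
    intro G _ _ x p k hn hp hidx
    set X := normalClosure ({x} : Set G) with hXdef
    rcases eq_or_ne X ⊥ with hX | hX
    · haveI : Subsingleton X := by rw [hX]; infer_instance
      infer_instance
    obtain ⟨N, hNX, hN, hN1, hmin⟩ := Cores.exists_minimal_normal_le X hX
    haveI : Nontrivial N := (Subgroup.nontrivial_iff_ne_bot N).2 hN1
    have hsolN : Group.IsSolvable N := by
      by_contra hns
      obtain ⟨S, hSg, hS, m, hm, ⟨e⟩⟩ := CharSimple.exists_pi_simple (G := N) (fun K hK => by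
        rcases hmin (K.map N.subtype) inferInstance (Subgroup.map_subtype_le K) with h | h
        · exact Or.inl ((Subgroup.map_eq_bot_iff_of_injective _ N.subtype_injective).mp h)
        · refine Or.inr (Subgroup.map_injective N.subtype_injective ?_)
          rw [h, ← MonoidHom.range_eq_map, Subgroup.range_subtype])
      haveI : Finite S := Finite.of_injective (fun s => e.symm fun _ => s) fun a b h =>
        congrFun (e.symm.injective h) ⟨0, hm⟩
      have hna : ∃ a b : S, a * b ≠ b * a := by
        by_contra hc
        push Not at hc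
        exact hns (Group.isSolvable_of_comm fun a b =>
          e.injective (funext fun i => by rw [map_mul, map_mul]; exact hc _ _))
      let α : MulAut N := MulAut.conjNormal x
      set F := α.toMonoidHom.eqLocus (MonoidHom.id N)
      have hαval : ∀ s : N, (α s : G) = x * s * x⁻¹ := fun s => MulAut.conjNormal_apply x s
      have hF : F = (centralizer ({x} : Set G)).subgroupOf N := by
        ext s
        show α s = s ↔ _
        rw [Subtype.ext_iff, hαval, mul_inv_eq_iff_eq_mul, Subgroup.mem_subgroupOf,
          Subgroup.mem_centralizer_singleton_iff, eq_comm]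
      obtain ⟨j, -, hj⟩ := (Nat.dvd_prime_pow hp).1
        (hidx ▸ relIndex_dvd_index (centralizer ({x} : Set G)) N)
      have hFidx : F.index = p ^ j := by rw [hF]; exact hj
      have htop : F = ⊤ := by
        rw [eq_top_iff]
        intro s _
        rw [← e.symm_apply_apply s]
        suffices H : ∀ y : Fin m → S, y ∈ F.comap e.symm.toMonoidHom from H (e s)
        intro y
        have hy : y ∈ (⊤ : Subgroup (Fin m → S)) := mem_top _
        revert y
        suffices H : (⊤ : Subgroup (Fin m → S)) ≤ F.comap e.symm.toMonoidHom from fun y hy => H hy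
        have hsingle : ∀ (i : Fin m) (t : S), Pi.mulSingle i t ∈ F.comap e.symm.toMonoidHom := by
          intro i
          let g : S →* N := e.symm.toMonoidHom.comp (MonoidHom.mulSingle (fun _ : Fin m => S) i)
          have hg : Function.Injective g := fun a b h =>
            Pi.mulSingle_injective i (e.symm.injective h)
          haveI : g.range.Normal := by
            constructor
            rintro _ ⟨t, rfl⟩ s
            refine ⟨e s i * t * (e s i)⁻¹, e.injective ?_⟩
            show e (e.symm (Pi.mulSingle i _)) = e (s * e.symm (Pi.mulSingle i t) * s⁻¹)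
            rw [map_mul, map_mul, map_inv, e.apply_symm_apply, e.apply_symm_apply]
            funext l
            rcases eq_or_ne l i with rfl | hl
            · simp
            · simp [Pi.mulSingle_eq_of_ne hl]
          let eS : S ≃* g.range := MonoidHom.ofInjective hg
          haveI : Nontrivial g.range := eS.toEquiv.symm.nontrivial
          haveI : IsSimpleGroup g.range :=
            IsSimpleGroup.isSimpleGroup_of_surjective eS.toMonoidHom eS.surjective
          have := simple_normal_fixed α hp hFidx g.range (by
            obtain ⟨a, c, hac⟩ := hna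
            exact ⟨eS a, eS c, fun h => hac (eS.injective (by rw [map_mul, map_mul]; exact h))⟩)
          exact fun t => this ⟨t, rfl⟩
        intro y _
        rw [← Finset.noncommProd_mulSingle y]
        refine Subgroup.noncommProd_mem _ _ fun i _ => ?_
        exact hsingle i _
      -- so `N` is centralised by the whole closure, hence abelian
      have hle : X ≤ centralizer (N : Set G) := by
        refine normalClosure_le_normal ?_
        rintro _ rfl
        intro s hs
        have h : (⟨s, hs⟩ : N) ∈ F := htop ▸ mem_top _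
        rw [hF, Subgroup.mem_subgroupOf, Subgroup.mem_centralizer_singleton_iff] at h
        exact h
      exact hns (Group.isSolvable_of_comm fun a b => Subtype.ext (hle (hNX b.2) a a.2))
    -- induction in `G ⧸ N`
    have hlt : Nat.card (G ⧸ N) < n := by
      rw [← hn, N.card_eq_card_quotient_mul_card_subgroup]
      exact lt_mul_of_one_lt_right Nat.card_pos (Finite.one_lt_card_iff_nontrivial.2 inferInstance)
    set q := QuotientGroup.mk' N
    obtain ⟨j, -, hj⟩ : ∃ j ≤ k, (centralizer ({q x} : Set (G ⧸ N))).index = p ^ j := by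
      refine (Nat.dvd_prime_pow hp).1 (hidx ▸ ?_)
      refine dvd_trans (Subgroup.index_dvd_of_le ?_)
        ((centralizer ({x} : Set G)).index_map_dvd (QuotientGroup.mk'_surjective N))
      rintro _ ⟨c, hc, rfl⟩
      rw [Subgroup.mem_centralizer_singleton_iff, ← map_mul, ← map_mul,
        Subgroup.mem_centralizer_singleton_iff.1 hc]
    have hq := ih _ hlt (G ⧸ N) (q x) p j rfl hp hj
    have hmap : X.map q = normalClosure ({q x} : Set (G ⧸ N)) := by
      rw [hXdef, Subgroup.map_normalClosure _ _ (QuotientGroup.mk'_surjective N), Set.image_singleton]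
    rw [← hmap] at hq
    haveI := hq
    haveI := hsolN
    refine Group.isSolvable_of_ker_le_range (Subgroup.inclusion hNX) (q.subgroupMap X) ?_
    intro y hy
    have h : (q y : G ⧸ N) = 1 := congrArg Subtype.val hy
    exact ⟨⟨y, (QuotientGroup.eq_one_iff _).1 h⟩, rfl⟩

theorem isSolvable_normalClosure {x : G} {p k : ℕ} (hp : p.Prime)
    (hidx : (centralizer ({x} : Set G)).index = p ^ k) :
    Group.IsSolvable ↥(normalClosure ({x} : Set G)) :=
  isSolvable_normalClosure_aux _ G x p k rfl hp hidx

/-- `x` centralises every normal subgroup of prime-power order for primes other than `p`. -/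
theorem commute_normal_pGroup {x : G} {p k q : ℕ} (hp : p.Prime) (hq : q.Prime) (hqp : q ≠ p)
    (hidx : (centralizer ({x} : Set G)).index = p ^ k) {Q : Subgroup G} [Q.Normal]
    (hQ : IsPGroup q Q) : Q ≤ centralizer ({x} : Set G) := by
  haveI : Fact q.Prime := ⟨hq⟩
  set C := centralizer ({x} : Set G)
  obtain ⟨T⟩ : Nonempty (Sylow q C) := inferInstance
  have hpk : ¬ q ∣ C.index := by
    rw [hidx]
    exact fun h => hqp ((Nat.prime_dvd_prime_iff_eq hq hp).1 (hq.dvd_of_dvd_pow h))
  have hT : IsPGroup q ↥((T : Subgroup C).map C.subtype) := T.isPGroup'.map _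
  have hTidx : ¬ q ∣ ((T : Subgroup C).map C.subtype).index := by
    rw [Subgroup.index_map_subtype]
    exact hq.not_dvd_mul T.not_dvd_index hpk
  refine le_trans ?_ (Subgroup.map_subtype_le (T : Subgroup C))
  let T' : Sylow q G := hT.toSylow hTidx
  exact hQ.le_sylow_of_normal T'

/-- Two conjugates of an element with `p`-power class commute modulo `O_p(G)`. -/
theorem commutator_mem_pCore {x : G} {p k : ℕ} (hp : p.Prime)
    (hidx : (centralizer ({x} : Set G)).index = p ^ k) (g h : G) :
    ⁅g * x * g⁻¹, h * x * h⁻¹⁆ ∈ Cfsg.pCore p G := by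
  haveI : Fact p.Prime := ⟨hp⟩
  set P := Cfsg.pCore p G
  set q := QuotientGroup.mk' P
  obtain ⟨j, -, hj⟩ : ∃ j ≤ k, (centralizer ({q x} : Set (G ⧸ P))).index = p ^ j := by
    refine (Nat.dvd_prime_pow hp).1 (hidx ▸ ?_)
    refine dvd_trans (Subgroup.index_dvd_of_le ?_)
      ((centralizer ({x} : Set G)).index_map_dvd (QuotientGroup.mk'_surjective P))
    rintro _ ⟨c, hc, rfl⟩
    rw [Subgroup.mem_centralizer_singleton_iff, ← map_mul, ← map_mul,
      Subgroup.mem_centralizer_singleton_iff.1 hc]
  have hO : Cfsg.pCore p (G ⧸ P) = ⊥ := Cores.pCore_quotient_self p G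
  rw [← QuotientGroup.eq_one_iff]
  show q ⁅g * x * g⁻¹, h * x * h⁻¹⁆ = 1
  rw [map_commutatorElement, commutatorElement_eq_one_iff_mul_comm, map_mul, map_mul, map_mul,
    map_mul, map_inv, map_inv]
  generalize q g = g', q h = h', q x = y at hj hO
  set X := normalClosure ({y} : Set (G ⧸ P)) with hXdef
  haveI := isSolvable_normalClosure hp hj
  have hyX : y ∈ X := subset_normalClosure rfl
  let F : Subgroup (G ⧸ P) := (Cfsg.fittingSubgroup X).map X.subtype
  haveI hFn : F.Normal := ConjAct.normal_of_characteristic_of_normal
  have hFnil : Group.IsNilpotent F := Cores.isNilpotent_map _ (Cores.isNilpotent_of_le_fittingSubgroup le_rfl)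
  -- `y` centralises `F`
  have hyF : F ≤ centralizer ({y} : Set (G ⧸ P)) := by
    have hdec : ∀ r : ℕ, r.Prime → ∀ R : Subgroup (G ⧸ P), R.Normal → IsPGroup r R →
        R ≤ centralizer ({y} : Set (G ⧸ P)) := by
      intro r hr R hR hRr
      rcases eq_or_ne r p with rfl | hne
      · have : R ≤ ⊥ := hO ▸ Cores.le_pCore hR hRr
        exact this.trans bot_le
      · exact commute_normal_pGroup hp hr hne hj hRr
    haveI := hFnil
    intro f hf
    have htop : (⟨f, hf⟩ : F) ∈ ⨆ r : Nat.Primes, Cfsg.pCore (r : ℕ) F := by
      rw [Cores.iSup_pCore_eq_top]; exact mem_top _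
    have hle : (⨆ r : Nat.Primes, Cfsg.pCore (r : ℕ) F) ≤
        (centralizer ({y} : Set (G ⧸ P))).subgroupOf F := by
      refine iSup_le fun r => ?_
      haveI := Cores.pCore_normal (r : ℕ) F
      have hchar : (Cfsg.pCore (r : ℕ) F).Characteristic :=
        Subgroup.characteristic_iff_map_eq.2 fun φ => Cores.pCore_map_mulEquiv φ _
      have := hdec r r.2 ((Cfsg.pCore (r : ℕ) F).map F.subtype)
        ConjAct.normal_of_characteristic_of_normal ((Cores.isPGroup_pCore _ _).map _)
      intro a ha
      exact this ⟨a, ha, rfl⟩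
    exact hle htop
  have hFX : X ≤ centralizer (F : Set (G ⧸ P)) := by
    refine normalClosure_le_normal ?_
    rintro _ rfl f hf
    exact Subgroup.mem_centralizer_singleton_iff.1 (hyF hf)
  have hyFit : (⟨y, hyX⟩ : X) ∈ Cfsg.fittingSubgroup X := by
    refine Solvable.centralizer_fitting_le X ?_
    intro f hf
    exact Subtype.ext (hFX hyX (f : G ⧸ P) ⟨f, hf, rfl⟩)
  have hXy : X ≤ centralizer ({y} : Set (G ⧸ P)) := by
    intro a ha
    rw [Subgroup.mem_centralizer_singleton_iff]
    exact (hFX ha y ⟨⟨y, hyX⟩, hyFit, rfl⟩).symm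
  have hab : X ≤ centralizer (X : Set (G ⧸ P)) := by
    refine normalClosure_le_normal ?_
    rintro _ rfl a ha
    exact Subgroup.mem_centralizer_singleton_iff.1 (hXy ha)
  exact hab (normalClosure_normal.conj_mem _ hyX h') _ (normalClosure_normal.conj_mem _ hyX g')

end Cfsg.Agent.Kazarin
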