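import Cfsg.Agent.Lib.Blocks.Simple

/-!
# Automorphisms of simple groups fixing a subgroup of prime-power index (namespace `Cfsg.Agent.Kazarin`)

* `commute_of_prime_order`: block-theoretic core, in a group `S⟨x⟩` with `x` of prime order
* `aut_eq_one_of_fixed_index`: an automorphism of a non-abelian finite simple group whose fixed
  subgroup has prime-power index is trivial
-/

set_option autoImplicit false

open scoped ComplexConjugate

namespace Cfsg.Agent.Kazarin

open Cfsg Module

theorem exists_third_prime {S : Type*} [Group S] [Finite S] [IsSimpleGroup S]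
    (hna : ∃ a b : S, a * b ≠ b * a) {p r : ℕ} (hp : p.Prime) (hr : r.Prime) :
    ∃ q : ℕ, q.Prime ∧ q ∣ Nat.card S ∧ q ≠ p ∧ q ≠ r := by
  by_contra hno
  push Not at hno
  have hsol : Group.IsSolvable S := by
    obtain ⟨a, b, hab⟩ : ∃ a b : ℕ, Nat.card S = p ^ a * r ^ b := by
      obtain ⟨a, n, hn, hcard⟩ := Nat.exists_eq_pow_mul_and_not_dvd
        (Nat.card_pos (α := S)).ne' p hp.ne_one
      refine ⟨a, n.primeFactorsList.length, ?_⟩
      have hn0 : n ≠ 0 := fun h => hn (h ▸ dvd_zero p)
      rw [hcard, ← Nat.eq_prime_pow_of_unique_prime_dvd hn0 fun {d} hd hdn =>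
        hno d hd (hcard ▸ dvd_mul_of_dvd_right hdn _) fun h => hn (h ▸ hdn)]
    exact CharApp.isSolvable_of_card_eq_prime_pow_mul p r hp hr _ S rfl a b hab
  obtain ⟨a, b, hab⟩ := hna
  exact hab (IsSimpleGroup.comm_iff_isSolvable.2 hsol a b)

variable {H : Type*} [Group H] [Finite H]

/-- A root of unity of prime order `r` congruent to one at a prime `q ≠ r` is one. -/
theorem eq_one_of_pow_prime_congr {q r : ℕ} {M : Ideal AlgInt} (hM : IsPModular q M) (hr : r.Prime)
    (hqr : q ≠ r) {z : ℂ} (hz : z ^ r = 1) (hc : MemLocalIdeal M (z - 1)) : z = 1 := by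
  by_contra hne
  have hg : ∑ i ∈ Finset.range r, z ^ i = 0 := by
    rw [geom_sum_eq hne, hz, sub_self, zero_div]
  have hint : IsIntegral ℤ z := IsIntegral.of_pow hr.pos (hz ▸ isIntegral_one)
  have h : MemLocalIdeal M ((r : ℕ) : ℂ) := by
    have h1 : ((r : ℕ) : ℂ) = -∑ i ∈ Finset.range r, (z ^ i - 1) := by
      rw [Finset.sum_sub_distrib, hg]; simp
    rw [h1]
    refine Blocks.memI_neg (Blocks.memI_sum hM _ fun i _ => ?_)
    have e : z ^ i - 1 = (z - 1) * ∑ j ∈ Finset.range i, z ^ j := by rw [mul_comm, geom_sum_mul]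
    rw [e]
    exact Blocks.memI_mul_right hM hc
      (Blocks.memR_of_isIntegral hM (IsIntegral.sum _ fun j _ => hint.pow j))
  exact Blocks.not_memI_natCast hM
    (fun hd => hqr ((Nat.prime_dvd_prime_iff_eq hM.1 hr).1 hd)) h

/-- In `H = S⟨x⟩` with `S` non-abelian simple normal and `x` of prime order, a prime-power class
of `x` forces `x` to centralise `S`. -/
theorem commute_of_prime_order (S : Subgroup H) [S.Normal] [IsSimpleGroup S]
    (hna : ∃ a b : S, a * b ≠ b * a) {x : H} {r : ℕ} (hr : r.Prime) (hx : x ^ r = 1)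
    (hgen : S ⊔ Subgroup.zpowers x = ⊤) {p k : ℕ} (hp : p.Prime)
    (hidx : (Subgroup.centralizer ({x} : Set H)).index = p ^ k) : ∀ s ∈ S, Commute x s := by
  classical
  by_contra hcon
  push Not at hcon
  obtain ⟨s₀, hs₀, hs₀x⟩ := hcon
  obtain ⟨q, hq, hqS, hqp, hqr⟩ := exists_third_prime hna hp hr
  obtain ⟨Mq, hMq⟩ := Blocks.exists_isPModular hq
  obtain ⟨Mp, hMp⟩ := Blocks.exists_isPModular hp
  haveI : Fact q.Prime := ⟨hq⟩
  have := Fintype.ofFinite (IrrCharacter H)
  obtain ⟨u, hu⟩ := exists_prime_orderOf_dvd_card' (G := S) q hqS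
  have hqk : ¬ q ∣ p ^ k := fun h => hqp ((Nat.prime_dvd_prime_iff_eq hq hp).1 (hq.dvd_of_dvd_pow h))
  have key : ∀ χ : IrrCharacter H, χ ∈ principalBlock Mq H → ¬ p ∣ charDegree (χ : H → ℂ) →
      (χ : H → ℂ) = fun _ => 1 := by
    intro χ hχ hpd
    have hcong := hχ x
    have h1 : centralChar (fun _ : H => (1 : ℂ)) x = ((p ^ k : ℕ) : ℂ) := by
      simp [centralChar, hidx]
    rw [h1] at hcong
    have hne : (χ : H → ℂ) x ≠ 0 := by
      intro h0
      rw [show centralChar (χ : H → ℂ) x = 0 by simp [centralChar, h0], sub_zero] at hcong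
      exact Blocks.not_memI_natCast hMq hqk hcong
    obtain ⟨n, ρ, hirr, hρ⟩ := χ.2
    have hfin : finrank ℂ (Fin n → ℂ) = charDegree (χ : H → ℂ) := by
      have h := (Representation.char_one ρ).symm
      rw [hρ, ← Blocks.charDegree_cast] at h
      exact_mod_cast h
    have hnorm := (CharApp.zero_or_norm_eq_of_coprime ρ x (by
      rw [hfin, hidx]
      exact Nat.Coprime.pow_right k (hp.coprime_iff_not_dvd.mpr hpd).symm)).resolve_left (hρ ▸ hne)
    obtain ⟨c, hc⟩ := (Char.norm_character_eq_iff ρ x).mp hnorm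
    have hc' : ρ x = c • 1 := by rw [hc]; rfl
    let φ : H →* Module.End ℂ (Fin n → ℂ) := ρ
    -- `S` is in the kernel
    have hS : ∀ s ∈ S, ρ s = 1 := by
      rcases (Subgroup.Normal.comap φ.toHomUnits.normal_ker S.subtype).eq_bot_or_eq_top with h | h
      · exfalso
        have hmem : x * s₀ * x⁻¹ * s₀⁻¹ ∈ S :=
          S.mul_mem (Subgroup.Normal.conj_mem inferInstance _ hs₀ x) (S.inv_mem hs₀)
        have h3 : (⟨_, hmem⟩ : S) ∈ φ.toHomUnits.ker.comap S.subtype := by
          rw [Subgroup.mem_comap, MonoidHom.mem_ker]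
          refine Units.ext ?_
          show ρ (x * s₀ * x⁻¹ * s₀⁻¹) = 1
          have h4 : ρ (x * s₀) = ρ (s₀ * x) := by
            rw [map_mul, map_mul, hc', smul_mul_assoc, one_mul, mul_smul_comm, mul_one]
          rw [show x * s₀ * x⁻¹ * s₀⁻¹ = (x * s₀) * (s₀ * x)⁻¹ by group, map_mul, h4, ← map_mul,
            mul_inv_cancel, map_one]
        rw [h, Subgroup.mem_bot] at h3
        exact hs₀x (commutatorElement_eq_one_iff_mul_comm.1 (congrArg Subtype.val h3))
      · intro s hs
        have h3 : (⟨s, hs⟩ : S) ∈ φ.toHomUnits.ker.comap S.subtype := h ▸ Subgroup.mem_top _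
        exact congrArg Units.val (MonoidHom.mem_ker.1 h3)
    have hscal : ∀ g : H, ∃ d : ℂ, ρ g = d • 1 := by
      intro g
      haveI : S.Normal := inferInstance
      obtain ⟨s, hs, y, hy, rfl⟩ := Subgroup.mem_sup_of_normal_left.1 (hgen ▸ Subgroup.mem_top g)
      obtain ⟨i, hi⟩ := ((isOfFinOrder_of_finite x).mem_zpowers_iff_mem_range_orderOf.1 hy) |>
        Finset.mem_image.1
      refine ⟨c ^ i, ?_⟩
      rw [map_mul, hS s hs, one_mul, ← hi.2, map_pow, hc', smul_pow, one_pow]
    haveI := hirr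
    haveI : Nontrivial (Fin n → ℂ) := CharApp.nontrivial_of_irr ρ
    have hdim : finrank ℂ (Fin n → ℂ) = 1 := by
      obtain ⟨v, hv⟩ := exists_ne (0 : Fin n → ℂ)
      rcases CharApp.eq_bot_or_top_of_invariant ρ (Submodule.span ℂ {v}) (fun g w hw => by
        obtain ⟨d, hd⟩ := hscal g
        rw [hd]
        exact Submodule.smul_mem _ d hw) with hW | hW
      · exact absurd (Submodule.span_singleton_eq_bot.mp hW) hv
      · rw [← finrank_top ℂ, ← hW, finrank_span_singleton hv]
    have hdeg : (χ : H → ℂ) 1 = 1 := by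
      rw [← hρ, Representation.char_one, hdim, Nat.cast_one]
    obtain ⟨l, hl⟩ := Char.exists_hom_of_degree_one (Char.IsIrrCharacter.isCharacter χ.2) hdeg
    have hlS : ∀ s ∈ S, l s = 1 := by
      intro s hs
      rw [congrFun hl s, ← hρ]
      show LinearMap.trace ℂ _ (ρ s) = 1
      rw [hS s hs, LinearMap.trace_one, hdim, Nat.cast_one]
    have hlx : l x = 1 := by
      refine eq_one_of_pow_prime_congr hMq hr hqr (by rw [← map_pow, hx, map_one]) ?_
      have e : centralChar (χ : H → ℂ) x = ((p ^ k : ℕ) : ℂ) * l x := by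
        rw [centralChar, hidx, hdeg, div_one, congrFun hl x]
      rw [e] at hcong
      have e2 : l x - 1 = ((p ^ k : ℕ) : ℂ)⁻¹ * (((p ^ k : ℕ) : ℂ) * l x - ((p ^ k : ℕ) : ℂ)) := by
        have : ((p ^ k : ℕ) : ℂ) ≠ 0 := Nat.cast_ne_zero.2 (pow_pos hp.pos k).ne'
        field_simp
      rw [e2]
      refine Blocks.memI_mul_left hMq (Blocks.memR_natCast_inv hMq hqk) ?_
      rw [← neg_sub]
      exact Blocks.memI_neg hcong
    have hlin : ∀ g : H, l g = 1 := by
      intro g
      obtain ⟨s, hs, y, hy, rfl⟩ := Subgroup.mem_sup_of_normal_left.1 (hgen ▸ Subgroup.mem_top g)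
      obtain ⟨i, hi⟩ := ((isOfFinOrder_of_finite x).mem_zpowers_iff_mem_range_orderOf.1 hy) |>
        Finset.mem_image.1
      rw [map_mul, hlS s hs, one_mul, ← hi.2, map_pow, hlx, one_pow]
    funext g
    rw [← congrFun hl g, hlin]
  obtain ⟨hB, h1B⟩ := Blocks.principal_isPBlock (G := H) hMq
  have horth := Blocks.weak_orth hMq (Blocks.blockInd_mem_intRing hMq hB) (x := 1)
    (by simpa using hq.one_lt.ne') (y := (u : H)) (by rw [Subgroup.orderOf_coe, hu])
  rw [finsum_mem_def, finsum_eq_sum_of_fintype,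
    ← Finset.add_sum_erase _ _ (Finset.mem_univ (⟨1, Char.isIrrCharacter_one⟩ : IrrCharacter H)),
    Set.indicator_of_mem h1B] at horth
  simp only [Pi.one_apply, map_one, one_mul] at horth
  have hrest : MemLocalIdeal Mp (-1) := by
    rw [← eq_neg_of_add_eq_zero_right horth]
    refine Blocks.memI_sum hMp _ fun χ hχ => ?_
    by_cases hχB : χ ∈ principalBlock Mq H
    swap
    · rw [Set.indicator_of_notMem hχB]; exact Blocks.memI_zero hMp
    rw [Set.indicator_of_mem hχB, ← Blocks.charDegree_cast]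
    by_cases hpd : p ∣ charDegree (χ : H → ℂ)
    · refine Blocks.memI_mul_right hMp ((Blocks.memI_natCast hMp).mpr hpd) ?_
      rw [← Char.IsCharacter.apply_inv (Char.IsIrrCharacter.isCharacter χ.2)]
      exact Blocks.memR_of_isIntegral hMp (Blocks.isIntegral_irr χ _)
    · exact absurd (Subtype.ext (key χ hχB hpd)) (Finset.mem_erase.mp hχ).1
  exact Blocks.not_memI_one hMp (neg_neg (1 : ℂ) ▸ Blocks.memI_neg hrest)

/-- An automorphism of a non-abelian finite simple group whose fixed subgroup has prime-power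
index is trivial. -/
theorem aut_eq_one_of_fixed_index {S : Type*} [Group S] [Finite S] [IsSimpleGroup S]
    (hna : ∃ a b : S, a * b ≠ b * a) (α : MulAut S) {p k : ℕ} (hp : p.Prime)
    (hidx : (α.toMonoidHom.eqLocus (MonoidHom.id S)).index = p ^ k) : α = 1 := by
  classical
  by_contra hα
  have hn : orderOf α ≠ 1 := fun h => hα (orderOf_eq_one_iff.1 h)
  obtain ⟨r, hr, n, hn'⟩ := Nat.exists_prime_and_dvd hn
  set β := α ^ n
  have hβr : β ^ r = 1 := by rw [← pow_mul, mul_comm, ← hn', pow_orderOf_eq_one]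
  have hβ : β ≠ 1 := by
    intro h
    have hd := orderOf_dvd_of_pow_eq_one h
    have hpos := orderOf_pos α
    rcases Nat.eq_zero_or_pos n with h0 | h0
    · rw [h0, mul_zero] at hn'; omega
    · have := Nat.le_of_dvd h0 hd
      have := hr.two_le
      nlinarith
  let f : S →* MulAut S := MulAut.conj
  let H : Subgroup (MulAut S) := f.range ⊔ Subgroup.zpowers β
  have hnorm : ∀ (γ : MulAut S) (s : S), γ * f s * γ⁻¹ = f (γ s) := by
    intro γ s; ext t; simp [f]
  haveI hfn : f.range.Normal := ⟨by rintro _ ⟨s, rfl⟩ γ; exact ⟨γ s, (hnorm γ s).symm⟩⟩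
  let g : S →* H := f.codRestrict H fun s => Subgroup.mem_sup_left ⟨s, rfl⟩
  have hfinj : Function.Injective f := by
    rw [← MonoidHom.ker_eq_bot_iff]
    rcases f.normal_ker.eq_bot_or_eq_top with h | h
    · exact h
    · obtain ⟨a, b, hab⟩ := hna
      refine absurd ?_ hab
      have ha : f a b = b := by
        have := MonoidHom.mem_ker.1 (h ▸ Subgroup.mem_top a : a ∈ f.ker)
        rw [this]; rfl
      simp only [f, MulAut.conj_apply] at ha
      exact eq_mul_inv_iff_mul_eq.1 ha.symm |>.symm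
  have hginj : Function.Injective g := fun a b h => hfinj (congrArg Subtype.val h)
  have hrange : g.range = f.range.subgroupOf H := by
    ext y
    constructor
    · rintro ⟨s, rfl⟩; exact ⟨s, rfl⟩
    · rintro ⟨s, hs⟩; exact ⟨s, Subtype.ext hs⟩
  haveI : g.range.Normal := hrange ▸ inferInstance
  let e : S ≃* g.range := MonoidHom.ofInjective hginj
  haveI : Nontrivial g.range := e.toEquiv.symm.nontrivial
  haveI : IsSimpleGroup g.range := IsSimpleGroup.isSimpleGroup_of_surjective e.toMonoidHom e.surjective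
  let b : H := ⟨β, Subgroup.mem_sup_right (Subgroup.mem_zpowers β)⟩
  have hgen : g.range ⊔ Subgroup.zpowers b = ⊤ := by
    apply Subgroup.map_injective H.subtype_injective
    rw [Subgroup.map_sup, MonoidHom.map_zpowers, ← MonoidHom.range_eq_map, H.range_subtype,
      hrange, Subgroup.map_subgroupOf_eq_of_le le_sup_left]
    rfl
  set C := Subgroup.centralizer ({b} : Set H)
  have hC : C ⊔ g.range = ⊤ := by
    rw [eq_top_iff, ← hgen, sup_comm C]
    exact sup_le_sup_left (Subgroup.zpowers_le.2 (Subgroup.mem_centralizer_singleton_iff.2 rfl)) _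
  obtain ⟨j, -, hj⟩ : ∃ j ≤ k, C.index = p ^ j := by
    refine (Nat.dvd_prime_pow hp).1 (hidx ▸ ?_)
    have h1 : (C.comap g).index = C.index := by
      rw [Subgroup.index_comap]
      have e1 : g.range.index = g.range.relIndex C := by
        rw [← Subgroup.relIndex_top_right g.range, ← hC, Subgroup.relIndex_sup_right]
      have e2 := Subgroup.relIndex_mul_index (inf_le_left : C ⊓ g.range ≤ C)
      have e3 := Subgroup.relIndex_mul_index (inf_le_right : C ⊓ g.range ≤ g.range)
      rw [Subgroup.inf_relIndex_left] at e2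
      rw [Subgroup.inf_relIndex_right, e1, mul_comm, ← e2] at e3
      refine mul_left_cancel₀ ?_ e3
      exact fun h0 => Subgroup.index_ne_zero_of_finite (e1.trans h0)
    rw [← h1]
    refine Subgroup.index_dvd_of_le fun s (hs : α s = s) => ?_
    rw [Subgroup.mem_comap, Subgroup.mem_centralizer_singleton_iff]
    refine Subtype.ext ?_
    show f s * β = β * f s
    have hβs : β s = s := by
      have : ∀ m : ℕ, (α ^ m) s = s := fun m => by
        induction m with
        | zero => rfl
        | succ m ih => rw [pow_succ, MulAut.mul_apply, hs, ih]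
      exact this n
    have := hnorm β s
    rw [hβs, mul_inv_eq_iff_eq_mul] at this
    exact this.symm
  have hna' : ∃ a b : g.range, a * b ≠ b * a := by
    obtain ⟨a, c, hac⟩ := hna
    exact ⟨e a, e c, fun h => hac (e.injective (by rw [map_mul, map_mul]; exact h))⟩
  have hc := commute_of_prime_order g.range hna' hr (x := b) (Subtype.ext hβr) hgen hp hj
  refine hβ (MulEquiv.ext fun s => hfinj ?_)
  rw [← hnorm]
  have := congrArg Subtype.val (hc (g s) ⟨s, rfl⟩).eq
  simp only [Subgroup.coe_mul] at this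
  show β * f s * β⁻¹ = f s
  rw [mul_inv_eq_iff_eq_mul]
  exact this

end Cfsg.Agent.Kazarin
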